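import Mathlib
import Groth.Prelude.Def_DCoh3
import Groth.Prelude.Def_CohB1
import Groth.Agent.Lib.Helper5.Perf.PCTop
import Groth.Agent.Lib.Helper5.FinPC.IsoSq
import Groth.Agent.Lib.Helper1.FtSupp

/-!
# A bounded pseudo-coherent object with vanishing cohomology stalks at a point vanishes on a
neighbourhood (helper5)
-/
set_option autoImplicit false
set_option linter.style.haveILetI false
set_option linter.unusedVariables false
universe u
open CategoryTheory CategoryTheory.Limits AlgebraicGeometry Opposite TopologicalSpace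

attribute [local instance] HasDerivedCategory.standard

namespace Groth.Agent.Lib.Helper5.SpreadMap

open Groth.Agent.Lib.Helper5.RpushSupp Groth.Agent.Lib.Helper5.PCTop

variable {Z : Scheme.{u}}

theorem subsingleton_stalk_of_iso' {M N : Z.Modules} (e : M ≅ N) (x : Z)
    (h : Subsingleton (N.presheaf.stalk x)) : Subsingleton (M.presheaf.stalk x) := by
  let e' := (Scheme.Modules.toPresheaf Z ⋙
    TopCat.Presheaf.stalkFunctor AddCommGrpCat.{u} x).mapIso e
  haveI : Subsingleton ↑((Scheme.Modules.toPresheaf Z ⋙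
      TopCat.Presheaf.stalkFunctor AddCommGrpCat.{u} x).obj N) := h
  exact (ConcreteCategory.bijective_of_isIso e'.hom).injective.subsingleton

theorem subsingleton_stalk_restrict_iff (M : Z.Modules) (W : Z.Opens) (w : W) :
    Subsingleton ((M.restrict W.ι).presheaf.stalk w) ↔
      Subsingleton (M.presheaf.stalk (W.ι w)) := by
  let e := (Scheme.Modules.restrictStalkNatIso W.ι w).app M
  constructor
  · intro h
    haveI : Subsingleton ↑((Scheme.Modules.restrictFunctor W.ι ⋙
        Scheme.Modules.toPresheaf _ ⋙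
        TopCat.Presheaf.stalkFunctor AddCommGrpCat.{u} w).obj M) := h
    exact (ConcreteCategory.bijective_of_isIso e.inv).injective.subsingleton
  · intro h
    haveI : Subsingleton ↑((Scheme.Modules.toPresheaf _ ⋙
        TopCat.Presheaf.stalkFunctor AddCommGrpCat.{u} (W.ι w)).obj M) := h
    exact (ConcreteCategory.bijective_of_isIso e.hom).injective.subsingleton

/-- the stalks of the cohomology sheaves of a restriction -/
theorem subsingleton_stalk_HD_restrictD_iff (D : DCoh.D Z) (W : Z.Opens) (w : W) (m : ℤ) :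
    Subsingleton ((DCoh.HD ((DCoh.restrictD W.ι).obj D) m).presheaf.stalk w) ↔
      Subsingleton ((DCoh.HD D m).presheaf.stalk (W.ι w)) := by
  rw [← subsingleton_stalk_restrict_iff]
  exact ⟨fun h => subsingleton_stalk_of_iso' (hdRestrictDIso D W m) w h,
    fun h => subsingleton_stalk_of_iso' (hdRestrictDIso D W m).symm w h⟩

theorem vanish_step (z : Z) (D : DCoh.D Z) (hD : ∀ m, DCoh.IsPseudoCoherentD m D)
    (hz : ∀ i, Subsingleton ((DCoh.HD D i).presheaf.stalk z)) (m : ℤ)
    (W : Z.Opens) (hzW : z ∈ W)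
    (hW : ∀ i, m < i → IsZero ((DCoh.HD D i).restrict W.ι)) :
    ∃ W' : Z.Opens, z ∈ W' ∧ ∀ i, m - 1 < i → IsZero ((DCoh.HD D i).restrict W'.ι) := by
  have hz' : ∀ i, m < i → IsZero (DCoh.HD ((DCoh.restrictD W.ι).obj D) i) := fun i hi =>
    IsZero.of_iso (hW i hi) (hdRestrictDIso D W i).symm
  have hFT : CohB1.IsFT (DCoh.HD ((DCoh.restrictD W.ι).obj D) m) :=
    (top_cohomology m _ (Groth.Agent.Lib.Helper5.IsoSq.isPC_restrictD W.ι (hD m))).1 hz'
  have hcl := Groth.Agent.Helper1.FtGen.isClosed_support _ hFT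
  let V : (W : Scheme.{u}).Opens := ⟨_, hcl.isOpen_compl⟩
  have hV : ∀ v : (W : Scheme.{u}), v ∈ V ↔
      Subsingleton ((DCoh.HD D m).presheaf.stalk (W.ι v)) := by
    intro v
    rw [← subsingleton_stalk_HD_restrictD_iff]
    change ¬ ¬ _ ↔ _
    rw [not_not]
  have hsub : ∀ y ∈ W.ι ''ᵁ V, y ∈ W ∧ Subsingleton ((DCoh.HD D m).presheaf.stalk y) := by
    rintro _ ⟨v, hv, rfl⟩
    exact ⟨v.2, (hV v).1 hv⟩
  refine ⟨W.ι ''ᵁ V, ⟨⟨z, hzW⟩, (hV ⟨z, hzW⟩).2 (hz m), rfl⟩, fun i hi => ?_⟩
  apply isZero_restrict_of_stalks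
  intro y hy
  obtain ⟨hyW, hym⟩ := hsub y hy
  by_cases him : i = m
  · subst him
    exact hym
  · exact subsingleton_stalk_of_isZero_restrict _ W (hW i (by omega)) y hyW

/-- **a bounded pseudo-coherent object whose cohomology sheaves have vanishing stalks at `z`
vanishes on a neighbourhood of `z`** -/
theorem exists_open_isZero_restrictD (z : Z) (D : DCoh.D Z)
    (hD : ∀ m, DCoh.IsPseudoCoherentD m D) (lo hi : ℤ)
    (hlo : ∀ i, i < lo → IsZero (DCoh.HD D i)) (hhi : ∀ i, hi < i → IsZero (DCoh.HD D i))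
    (hz : ∀ i, Subsingleton ((DCoh.HD D i).presheaf.stalk z)) :
    ∃ W : Z.Opens, z ∈ W ∧ IsZero ((DCoh.restrictD W.ι).obj D) := by
  have claim : ∀ k : ℕ, ∃ W : Z.Opens, z ∈ W ∧
      ∀ i, hi - k < i → IsZero ((DCoh.HD D i).restrict W.ι) := by
    intro k
    induction k with
    | zero =>
      refine ⟨⊤, Opens.mem_top z, fun i hi' => ?_⟩
      exact Functor.map_isZero (Scheme.Modules.restrictFunctor _) (hhi i (by simpa using hi'))
    | succ k ih =>
      obtain ⟨W, hzW, hW⟩ := ih
      obtain ⟨W', hzW', hW'⟩ := vanish_step z D hD hz (hi - k) W hzW hW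
      refine ⟨W', hzW', fun i hi' => hW' i ?_⟩
      push_cast at hi'
      omega
  obtain ⟨W, hzW, hW⟩ := claim (hi - lo + 1).toNat
  refine ⟨W, hzW, isZero_of_forall_isZero_HD _ (fun i => ?_)⟩
  by_cases hi' : i < lo
  · exact isZero_HD_restrictD D W i (hlo i hi')
  · refine IsZero.of_iso (hW i ?_) (hdRestrictDIso D W i).symm
    have : ((hi - lo + 1).toNat : ℤ) = max (hi - lo + 1) 0 := Int.toNat_eq_max _ |>.symm ▸ rfl
    omega

end Groth.Agent.Lib.Helper5.SpreadMap
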