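import Mathlib
import Groth.Prelude.Def_DCoh3
import Groth.Prelude.Def_CohB1
import Groth.Agent.Lib.Helper5.SpreadMap.Vanish
import Groth.Agent.Lib.Helper5.Perf.PCTri
import Groth.Agent.Lib.Helper5.Perf.ExactHom
import Groth.Agent.Lib.Helper5.Stalk.Exact

/-!
# The main lemma for spreading out an isomorphism of stalk complexes (helper5)
-/
set_option autoImplicit false
set_option linter.style.haveILetI false
set_option linter.unusedVariables false
set_option linter.unusedSectionVars false
universe u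
open CategoryTheory CategoryTheory.Limits AlgebraicGeometry Opposite TopologicalSpace Pretriangulated

attribute [local instance] HasDerivedCategory.standard

namespace Groth.Agent.Lib.Helper5.SpreadMap

open Groth.Agent.Lib.Helper5.RpushSupp Groth.Agent.Lib.Helper5.PCTop
  Groth.Agent.Lib.Helper5.PCApprox Groth.Agent.Lib.Helper5.PCTri
  Groth.Agent.Lib.Helper5.StalkAdj Groth.Agent.Lib.Helper5.ExactHom
open DerivedCategory.HomologySequence

section Gen

variable {C₁ : Type*} [Category C₁] [Abelian C₁] [HasDerivedCategory C₁]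
  {C₂ : Type*} [Category C₂] [Abelian C₂]
  (R : C₁ ⥤ C₂) [R.Additive] [R.PreservesHomology]

/-- if `R (H^i mor₁)` is an epimorphism and `R (H^{i+1} mor₁)` a monomorphism, then
`R (H^i obj₃) = 0` -/
theorem isZero_map_homology_obj₃ (T : Triangle (DerivedCategory C₁)) (hT : T ∈ distTriang _)
    (i : ℤ) (h₁ : Epi (R.map ((DerivedCategory.homologyFunctor C₁ i).map T.mor₁)))
    (h₂ : Mono (R.map ((DerivedCategory.homologyFunctor C₁ (i + 1)).map T.mor₁))) :
    IsZero (R.obj ((DerivedCategory.homologyFunctor C₁ i).obj T.obj₃)) := by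
  have e₃ := (exact₃ T hT i (i + 1) rfl).map R
  have hb : R.map ((DerivedCategory.homologyFunctor C₁ i).map T.mor₂) = 0 := by
    have hc : (DerivedCategory.homologyFunctor C₁ i).map T.mor₁ ≫
        (DerivedCategory.homologyFunctor C₁ i).map T.mor₂ = 0 := by
      rw [← Functor.map_comp, comp_distTriang_mor_zero₁₂ _ hT, Functor.map_zero]
    rw [← cancel_epi (R.map ((DerivedCategory.homologyFunctor C₁ i).map T.mor₁)),
      ← Functor.map_comp, hc, Functor.map_zero, comp_zero]
  have hδ : R.map (δ T i (i + 1) rfl) = 0 := by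
    have hc' : δ T i (i + 1) rfl ≫ (DerivedCategory.homologyFunctor C₁ (i + 1)).map T.mor₁ = 0 :=
      δ_comp T hT i (i + 1) rfl
    rw [← cancel_mono (R.map ((DerivedCategory.homologyFunctor C₁ (i + 1)).map T.mor₁)),
      ← Functor.map_comp, hc', Functor.map_zero, zero_comp]
  exact e₃.isZero_of_both_zeros hb hδ

end Gen

variable {Z : Scheme.{u}}

/-- the cone of an approximation at level `m` is `≤ m - 1` -/
theorem isLE_cone_of_isApprox' {m : ℤ} (T : Triangle (DCoh.D Z)) (hT : T ∈ distTriang _)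
    (h : IsApprox m T.mor₁) : T.obj₃.IsLE (m - 1) := by
  rw [DerivedCategory.isLE_iff]
  intro i hi
  have hepi : Epi ((DerivedCategory.homologyFunctor Z.Modules i).map T.mor₁) := by
    rcases eq_or_lt_of_le (show m ≤ i by omega) with rfl | hi'
    · exact h.2
    · haveI := h.1 i hi'
      infer_instance
  have h0 : (DerivedCategory.homologyFunctor Z.Modules i).map T.mor₂ = 0 :=
    (epi_homologyMap_mor₁_iff T hT i).1 hepi
  haveI := h.1 (i + 1) (by omega)
  have hmono : Mono ((DerivedCategory.homologyFunctor Z.Modules (i + 1)).map T.mor₁) :=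
    inferInstance
  have hδ : δ T i (i + 1) rfl = 0 := (mono_homologyMap_mor₁_iff T hT i (i + 1) rfl).1 hmono
  haveI : Epi ((DerivedCategory.homologyFunctor Z.Modules i).map T.mor₂) :=
    (epi_homologyMap_mor₂_iff T hT i (i + 1) rfl).2 hδ
  exact IsZero.of_epi_eq_zero _ h0

theorem isIso_of_isZero {A : Type*} [Category A] [HasZeroMorphisms A] {X Y : A} (f : X ⟶ Y)
    (hX : IsZero X) (hY : IsZero Y) : IsIso f :=
  ⟨⟨0, hX.eq_of_src _ _, hY.eq_of_src _ _⟩⟩

/-- a quasi-isomorphism in degree `i` of stalk complexes gives an isomorphism on the stalk of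
the `i`-th cohomology sheaf -/
theorem isIso_stalk_homology_Q_map (z : Z) {P F : CochainComplex Z.Modules ℤ} (φ : P ⟶ F) (i : ℤ)
    (h : QuasiIsoAt (((stalkSh Z z).mapHomologicalComplex (ComplexShape.up ℤ)).map φ) i) :
    IsIso ((stalkSh Z z).map ((DerivedCategory.homologyFunctor Z.Modules i).map
      (DerivedCategory.Q.map φ))) := by
  rw [quasiIsoAt_iff_isIso_homologyMap] at h
  have h1 : IsIso (((stalkSh Z z).mapHomologicalComplex (ComplexShape.up ℤ) ⋙
      HomologicalComplex.homologyFunctor _ (ComplexShape.up ℤ) i).map φ) := h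
  have h2 : IsIso ((HomologicalComplex.homologyFunctor Z.Modules (ComplexShape.up ℤ) i ⋙
      stalkSh Z z).map φ) := (NatIso.isIso_map_iff (cxHomologyIso (stalkSh Z z) i) φ).1 h1
  have h3 : IsIso (((DerivedCategory.Q ⋙ DerivedCategory.homologyFunctor Z.Modules i) ⋙
      stalkSh Z z).map φ) :=
    (NatIso.isIso_map_iff (Functor.isoWhiskerRight
      (DerivedCategory.homologyFunctorFactors Z.Modules i) (stalkSh Z z)) φ).2 h2
  exact h3

/-- **main lemma** -/
theorem main_lemma (z : Z) (E F P : CochainComplex Z.Modules ℤ) (c d : ℤ)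
    [(DCoh.toD Z E).IsGE c] [(DCoh.toD Z E).IsLE d]
    [(DCoh.toD Z F).IsGE c] [(DCoh.toD Z F).IsLE d]
    (hE : ∀ m : ℤ, DCoh.IsPseudoCoherentD m (DCoh.toD Z E))
    (hF : ∀ m : ℤ, DCoh.IsPseudoCoherentD m (DCoh.toD Z F))
    (m : ℤ) (hm : m + 2 ≤ c)
    (α : DerivedCategory.Q.obj P ⟶ DCoh.toD Z E) (hα : IsApprox m α) (φ : P ⟶ F)
    (hφ : ∀ i, m < i →
      QuasiIsoAt (((stalkSh Z z).mapHomologicalComplex (ComplexShape.up ℤ)).map φ) i) :
    ∃ W : Z.Opens, z ∈ W ∧
      Nonempty ((DCoh.restrictD W.ι).obj (DCoh.toD Z E) ≅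
        (DCoh.restrictD W.ι).obj (DCoh.toD Z F)) := by
  obtain ⟨C, β, γ, hT⟩ := distinguished_cocone_triangle α
  haveI hC : C.IsLE (m - 1) := isLE_cone_of_isApprox' (Triangle.mk α β γ) hT hα
  have hTinv := inv_rot_of_distTriang _ hT
  have h0 : (Triangle.mk α β γ).invRotate.mor₁ ≫ DerivedCategory.Q.map φ = 0 := by
    haveI : (C⟦(-1 : ℤ)⟧).IsLE m :=
      DerivedCategory.TStructure.t.isLE_shift C (m - 1) (-1) m (by omega)
    exact DerivedCategory.TStructure.t.zero_of_isLE_of_isGE _ m c (by omega)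
      (inferInstanceAs ((C⟦(-1 : ℤ)⟧).IsLE m)) (inferInstanceAs ((DCoh.toD Z F).IsGE c))
  obtain ⟨ψ, hψ⟩ := Triangle.yoneda_exact₂ _ hTinv (DerivedCategory.Q.map φ) h0
  replace hψ : DerivedCategory.Q.map φ = α ≫ ψ := hψ
  change DCoh.toD Z E ⟶ DCoh.toD Z F at ψ
  -- the stalk of `H^i ψ` is an isomorphism
  have hE0 : ∀ i, i < c → IsZero ((DerivedCategory.homologyFunctor Z.Modules i).obj
      (DCoh.toD Z E)) := fun i hi => DerivedCategory.isZero_of_isGE _ c i hi
  have hF0 : ∀ i, i < c → IsZero ((DerivedCategory.homologyFunctor Z.Modules i).obj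
      (DCoh.toD Z F)) := fun i hi => DerivedCategory.isZero_of_isGE _ c i hi
  have hE1 : ∀ i, d < i → IsZero ((DerivedCategory.homologyFunctor Z.Modules i).obj
      (DCoh.toD Z E)) := fun i hi => DerivedCategory.isZero_of_isLE _ d i hi
  have hF1 : ∀ i, d < i → IsZero ((DerivedCategory.homologyFunctor Z.Modules i).obj
      (DCoh.toD Z F)) := fun i hi => DerivedCategory.isZero_of_isLE _ d i hi
  have hA : ∀ i, IsIso ((stalkSh Z z).map
      ((DerivedCategory.homologyFunctor Z.Modules i).map ψ)) := by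
    intro i
    by_cases hi : m < i
    · haveI := hα.1 i hi
      have h1 := isIso_stalk_homology_Q_map z φ i (hφ i hi)
      rw [hψ, Functor.map_comp, Functor.map_comp] at h1
      exact IsIso.of_isIso_comp_left
        ((stalkSh Z z).map ((DerivedCategory.homologyFunctor Z.Modules i).map α)) _
    · exact isIso_of_isZero _ (Functor.map_isZero _ (hE0 i (by omega)))
        (Functor.map_isZero _ (hF0 i (by omega)))
  obtain ⟨D, β', γ', hT'⟩ := distinguished_cocone_triangle ψ
  have hDz : ∀ i, IsZero ((stalkSh Z z).obj (DCoh.HD D i)) := fun i => by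
    haveI := hA i
    haveI := hA (i + 1)
    have h1 : Epi ((stalkSh Z z).map
        ((DerivedCategory.homologyFunctor Z.Modules i).map ψ)) := inferInstance
    have h2 : Mono ((stalkSh Z z).map
        ((DerivedCategory.homologyFunctor Z.Modules (i + 1)).map ψ)) := inferInstance
    exact isZero_map_homology_obj₃ (stalkSh Z z) (Triangle.mk ψ β' γ') hT' i h1 h2
  have hDsub : ∀ i, Subsingleton ((DCoh.HD D i).presheaf.stalk z) := fun i =>
    ModuleCat.subsingleton_of_isZero (hDz i)
  have hDpc : ∀ k : ℤ, DCoh.IsPseudoCoherentD k D := fun k =>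
    isPC_obj₃ (Triangle.mk ψ β' γ') hT' k (hE (k + 1)) (hF k)
  have hDb : ∀ i, (i < c - 1 ∨ d < i) → IsZero (DCoh.HD D i) := by
    intro i hi
    have e₃ := exact₃ (Triangle.mk ψ β' γ') hT' i (i + 1) rfl
    refine e₃.isZero_of_both_zeros (IsZero.eq_of_src ?_ _ _) (IsZero.eq_of_tgt ?_ _ _)
    · rcases hi with hi | hi
      · exact hF0 i (by omega)
      · exact hF1 i hi
    · rcases hi with hi | hi
      · exact hE0 (i + 1) (by omega)
      · exact hE1 (i + 1) (by omega)
  obtain ⟨W, hzW, hW⟩ := exists_open_isZero_restrictD z D hDpc (c - 1) d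
    (fun i hi => hDb i (Or.inl hi)) (fun i hi => hDb i (Or.inr hi)) hDsub
  refine ⟨W, hzW, ?_⟩
  have hT'' := (DCoh.restrictD W.ι).map_distinguished _ hT'
  haveI : IsIso ((DCoh.restrictD W.ι).map ψ) :=
    (Triangle.isZero₃_iff_isIso₁ _ hT'').1 hW
  exact ⟨asIso ((DCoh.restrictD W.ι).map ψ)⟩

end Groth.Agent.Lib.Helper5.SpreadMap
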