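import Mathlib
import Groth.Agent.Lib.Helper5.Stalk.Exact
import Groth.Agent.Lib.Helper5.Perf.LocLift

/-!
# Maps out of finite free modules and stalks: lifting germs, vanishing near a point (helper5)
-/
set_option autoImplicit false
set_option linter.unusedSectionVars false
set_option linter.unusedVariables false
set_option linter.style.haveILetI false
universe u
open CategoryTheory CategoryTheory.Limits Opposite TopologicalSpace AlgebraicGeometry
open Groth.Agent.Lib.Helper5.Misc.StalkTensor Groth.Agent.Lib.Helper5.Sky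
  Groth.Agent.Lib.Helper5.StalkAdj Groth.Agent.Lib.Helper5.LocLift

namespace Groth.Agent.Lib.Helper5.SpreadMap

variable {Z : Scheme.{u}} (z : Z)

/-- the basis sections of the free module -/
noncomputable def eSec (n : ℕ) (j : Fin n) : Γ(FlatMod.freeMod Z n, ⊤) :=
  (freeι Z n j).app ⊤ (oneTop Z)

/-- maps out of the stalk of a finite free module are determined on germs of basis sections -/
theorem stalk_free_hom_ext (n : ℕ) (N : ModuleCat.{u} (Z.presheaf.stalk z))
    (f f' : (stalkSh Z z).obj (FlatMod.freeMod Z n) ⟶ N)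
    (h : ∀ j, f.hom (gm (FlatMod.freeMod Z n).val z ⊤ trivial (eSec n j)) =
      f'.hom (gm (FlatMod.freeMod Z n).val z ⊤ trivial (eSec n j))) : f = f' := by
  apply ((adjS Z z).homEquiv _ _).injective
  apply Sigma.hom_ext
  intro j
  apply unit_hom_ext
  rw [Adjunction.homEquiv_unit, Adjunction.homEquiv_unit]
  funext hp
  exact h j

/-- sections over `W`, as a module on `Z` -/
noncomputable abbrev TW (W : Z.Opens) : Z.Modules ⥤ Z.Modules :=
  Scheme.Modules.restrictFunctor W.ι ⋙ Scheme.Modules.pushforward W.ι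

/-- the restriction map `M ⟶ M(W ∩ -)` -/
noncomputable abbrev uW (W : Z.Opens) (M : Z.Modules) : M ⟶ (TW W).obj M :=
  (Scheme.Modules.restrictAdjunction W.ι).unit.app M

/-- **lifting a map of stalks out of a finite free module** to sections over small opens -/
theorem exists_lift_stalk (n : ℕ) (M : Z.Modules)
    (g : (stalkSh Z z).obj (FlatMod.freeMod Z n) ⟶ (stalkSh Z z).obj M) :
    ∃ O : Z.Opens, z ∈ O ∧ ∀ W : Z.Opens, W ≤ O → z ∈ W →
      ∃ φ : FlatMod.freeMod Z n ⟶ (TW W).obj M,
        (stalkSh Z z).map φ = g ≫ (stalkSh Z z).map (uW W M) := by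
  classical
  choose O hO s hs using fun j : Fin n =>
    gm_exists M.val z (g.hom (gm (FlatMod.freeMod Z n).val z ⊤ trivial (eSec n j)))
  refine ⟨Finset.univ.inf O, ?_, fun W hW hzW => ?_⟩
  · change z ∈ (↑(Finset.univ.inf O) : Set Z)
    rw [Opens.coe_finset_inf, Finset.inf_set_eq_iInter]
    simp only [Finset.mem_univ, Set.iInter_true, Set.mem_iInter, Function.comp_apply]
    exact hO
  · have hle : ∀ j, W.ι ''ᵁ (W.ι ⁻¹ᵁ ⊤) ≤ O j := fun j =>
      (W.ι_image_le _).trans (hW.trans (Finset.inf_le (Finset.mem_univ j)))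
    let t : Fin n → Γ((TW W).obj M, ⊤) := fun j => M.presheaf.map (homOfLE (hle j)).op (s j)
    refine ⟨Sigma.desc (fun j => homOfSection ((TW W).obj M) (t j)), ?_⟩
    apply stalk_free_hom_ext
    intro j
    rw [ModuleCat.hom_comp, LinearMap.comp_apply, ← hs j, stalkSh_map_apply, stalkSh_map_apply,
      stalkMap_gm, stalkMap_gm]
    have h1 : (Sigma.desc (fun j => homOfSection ((TW W).obj M) (t j))).val.app (op ⊤)
        (eSec n j) = t j := by
      have h2 : freeι Z n j ≫ Sigma.desc (fun j => homOfSection ((TW W).obj M) (t j)) =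
          homOfSection ((TW W).obj M) (t j) := Sigma.ι_desc _ _
      have h3 := congrArg (fun ψ => Scheme.Modules.Hom.app ψ ⊤ (oneTop Z)) h2
      simp only [homOfSection_app] at h3
      exact h3
    refine (congrArg (gm ((TW W).obj M).val z ⊤ trivial) h1).trans ?_
    refine (gm_res ((TW W).obj M).val z (homOfLE (le_top : O j ≤ ⊤)) (hO j) (t j)).symm.trans ?_
    congr 1
    change M.presheaf.map _ (M.presheaf.map _ (s j)) = M.presheaf.map _ (s j)
    rw [← ConcreteCategory.comp_apply, ← Functor.map_comp]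
    rfl

/-- a map to `M` restricts to zero on `W` if its composite with `M ⟶ M(W ∩ -)` vanishes -/
theorem restrict_map_eq_zero_of_comp_uW (W : Z.Opens) {A M : Z.Modules} (δ : A ⟶ M)
    (h : δ ≫ uW W M = 0) : (Scheme.Modules.restrictFunctor W.ι).map δ = 0 := by
  apply ((Scheme.Modules.restrictAdjunction W.ι).homEquiv _ _).injective
  rw [Adjunction.homEquiv_unit, Adjunction.homEquiv_unit, Functor.map_zero, comp_zero]
  have hn := (Scheme.Modules.restrictAdjunction W.ι).unit.naturality δ
  simp only [Functor.id_obj, Functor.id_map, Functor.comp_obj, Functor.comp_map] at hn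
  rw [← hn]
  exact h

/-- **a map out of a finite free module with vanishing stalk map at `z` vanishes near `z`** -/
theorem exists_restrict_eq_zero (n : ℕ) (M : Z.Modules) (δ : FlatMod.freeMod Z n ⟶ M)
    (hδ : (stalkSh Z z).map δ = 0) :
    ∃ O : Z.Opens, z ∈ O ∧ ∀ W : Z.Opens, W ≤ O →
      (Scheme.Modules.restrictFunctor W.ι).map δ = 0 := by
  classical
  have h1 : ∀ j : Fin n, ∃ V : Z.Opens, z ∈ V ∧
      M.presheaf.map (homOfLE (le_top : V ≤ ⊤)).op (δ.app ⊤ (eSec n j)) = 0 := by
    intro j
    have hz : z ∈ (⊤ : Z.Opens) := Opens.mem_top z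
    have h2 : gm M.val z ⊤ hz (δ.val.app (op ⊤) (eSec n j)) = 0 := by
      refine (stalkMap_gm z δ.val ⊤ hz (eSec n j)).symm.trans ?_
      exact congrArg (fun f => f.hom (gm (FlatMod.freeMod Z n).val z ⊤ hz (eSec n j))) hδ
    have h3 : M.presheaf.germ ⊤ z hz (δ.app ⊤ (eSec n j)) = M.presheaf.germ ⊤ z hz 0 := by
      rw [map_zero]
      exact h2
    obtain ⟨V, hzV, i1, i2, h⟩ := TopCat.Presheaf.germ_eq M.presheaf z hz hz _ _ h3
    refine ⟨V, hzV, ?_⟩
    rw [map_zero] at h
    exact h
  choose V hV hVz using h1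
  refine ⟨Finset.univ.inf V, ?_, fun W hW => ?_⟩
  · change z ∈ (↑(Finset.univ.inf V) : Set Z)
    rw [Opens.coe_finset_inf, Finset.inf_set_eq_iInter]
    simp only [Finset.mem_univ, Set.iInter_true, Set.mem_iInter, Function.comp_apply]
    exact hV
  · apply restrict_map_eq_zero_of_comp_uW
    apply Sigma.hom_ext
    intro j
    apply unit_hom_ext
    rw [comp_zero]
    have hle : W.ι ''ᵁ (W.ι ⁻¹ᵁ ⊤) ≤ V j :=
      (W.ι_image_le _).trans (hW.trans (Finset.inf_le (Finset.mem_univ j)))
    change M.presheaf.map (homOfLE (W.ι.image_preimage_le ⊤)).op (δ.app ⊤ (eSec n j)) = 0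
    have h4 : (homOfLE (W.ι.image_preimage_le ⊤)).op =
        (homOfLE (le_top : V j ≤ ⊤)).op ≫ (homOfLE hle).op := rfl
    rw [h4, Functor.map_comp, ConcreteCategory.comp_apply, hVz j, map_zero]

/-- the underlying group of the stalk module is Mathlib's stalk -/
noncomputable def abStalkIso :
    stalkSh Z z ⋙ forget₂ (ModuleCat.{u} (Z.presheaf.stalk z)) AddCommGrpCat.{u} ≅
      Scheme.Modules.toPresheaf Z ⋙ TopCat.Presheaf.stalkFunctor AddCommGrpCat.{u} z :=
  NatIso.ofComponents (fun M => Iso.refl _) (fun f => by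
    simp only [Iso.refl_hom, Category.comp_id, Category.id_comp]
    rfl)

theorem isIso_stalkSh_map_iff {M N : Z.Modules} (f : M ⟶ N) :
    IsIso ((stalkSh Z z).map f) ↔
      IsIso ((TopCat.Presheaf.stalkFunctor AddCommGrpCat.{u} z).map
        ((Scheme.Modules.toPresheaf Z).map f)) := by
  rw [← isIso_iff_of_reflects_iso ((stalkSh Z z).map f)
    (forget₂ (ModuleCat.{u} (Z.presheaf.stalk z)) AddCommGrpCat.{u})]
  exact NatIso.isIso_map_iff (abStalkIso z) f

instance isIso_restrict_uW (W : Z.Opens) (M : Z.Modules) :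
    IsIso ((Scheme.Modules.restrictFunctor W.ι).map (uW W M)) := by
  have h := (Scheme.Modules.restrictAdjunction W.ι).left_triangle_components M
  haveI : IsIso ((Scheme.Modules.restrictFunctor W.ι).map (uW W M) ≫
      (Scheme.Modules.restrictAdjunction W.ι).counit.app
        ((Scheme.Modules.restrictFunctor W.ι).obj M)) := by
    rw [h]
    infer_instance
  exact IsIso.of_isIso_comp_right _ ((Scheme.Modules.restrictAdjunction W.ι).counit.app
        ((Scheme.Modules.restrictFunctor W.ι).obj M))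

theorem isIso_restrict_uW_of_le {W' W : Z.Opens} (h : W' ≤ W) (M : Z.Modules) :
    IsIso ((Scheme.Modules.restrictFunctor W'.ι).map (uW W M)) := by
  let k := Z.homOfLE h
  have hk : k ≫ W.ι = W'.ι := Z.homOfLE_ι h
  let θ : Scheme.Modules.restrictFunctor W'.ι ≅
      Scheme.Modules.restrictFunctor W.ι ⋙ Scheme.Modules.restrictFunctor k :=
    Scheme.Modules.restrictFunctorCongr hk.symm ≪≫ Scheme.Modules.restrictFunctorComp k W.ι
  rw [NatIso.isIso_map_iff θ (uW W M)]
  change IsIso ((Scheme.Modules.restrictFunctor k).map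
    ((Scheme.Modules.restrictFunctor W.ι).map (uW W M)))
  infer_instance

/-- stalks of a restriction, on isomorphisms -/
theorem isIso_stalkSh_restrict_iff (W : Z.Opens) (w : W) {M N : Z.Modules} (f : M ⟶ N) :
    IsIso ((stalkSh (W : Scheme.{u}) w).map ((Scheme.Modules.restrictFunctor W.ι).map f)) ↔
      IsIso ((stalkSh Z (W.ι w)).map f) := by
  rw [isIso_stalkSh_map_iff, isIso_stalkSh_map_iff]
  exact NatIso.isIso_map_iff (Scheme.Modules.restrictStalkNatIso W.ι w) f

theorem isIso_stalkSh_uW (W : Z.Opens) (hz : z ∈ W) (M : Z.Modules) :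
    IsIso ((stalkSh Z z).map (uW W M)) := by
  have h := isIso_stalkSh_restrict_iff W ⟨z, hz⟩ (uW W M)
  exact h.1 inferInstance

end Groth.Agent.Lib.Helper5.SpreadMap
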