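import Mathlib

/-!
# Transfer of quasi-isomorphisms in a degree through underlying complexes of abelian groups (helper5)
-/

set_option autoImplicit false
universe u
open CategoryTheory CategoryTheory.Limits

namespace Groth.Agent.Lib.Helper5.SpreadMap

section Q
variable {R₁ R₂ : Type u} [Ring R₁] [Ring R₂]

/-- transfer of quasi-isomorphisms in a degree through the underlying complexes of abelian groups -/
theorem quasiIsoAt_of_ab {K L : CochainComplex (ModuleCat.{u} R₁) ℤ}
    {K' L' : CochainComplex (ModuleCat.{u} R₂) ℤ} (f : K ⟶ L) (g : K' ⟶ L')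
    (eK : ((forget₂ (ModuleCat.{u} R₁) AddCommGrpCat.{u}).mapHomologicalComplex (ComplexShape.up ℤ)).obj K ≅
      ((forget₂ (ModuleCat.{u} R₂) AddCommGrpCat.{u}).mapHomologicalComplex (ComplexShape.up ℤ)).obj K')
    (eL : ((forget₂ (ModuleCat.{u} R₁) AddCommGrpCat.{u}).mapHomologicalComplex (ComplexShape.up ℤ)).obj L ≅
      ((forget₂ (ModuleCat.{u} R₂) AddCommGrpCat.{u}).mapHomologicalComplex (ComplexShape.up ℤ)).obj L')
    (h : ((forget₂ (ModuleCat.{u} R₁) AddCommGrpCat.{u}).mapHomologicalComplex (ComplexShape.up ℤ)).map f ≫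
        eL.hom = eK.hom ≫
      ((forget₂ (ModuleCat.{u} R₂) AddCommGrpCat.{u}).mapHomologicalComplex (ComplexShape.up ℤ)).map g)
    (i : ℤ) (hg : QuasiIsoAt g i) : QuasiIsoAt f i := by
  rw [← HomologicalComplex.quasiIsoAt_map_iff_of_preservesHomology f
    (forget₂ (ModuleCat.{u} R₁) AddCommGrpCat.{u})]
  haveI : QuasiIsoAt (((forget₂ (ModuleCat.{u} R₂) AddCommGrpCat.{u}).mapHomologicalComplex
      (ComplexShape.up ℤ)).map g) i := inferInstance
  haveI : QuasiIsoAt (((forget₂ (ModuleCat.{u} R₁) AddCommGrpCat.{u}).mapHomologicalComplex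
      (ComplexShape.up ℤ)).map f ≫ eL.hom) i := by
    rw [h]
    infer_instance
  exact quasiIsoAt_of_comp_right _ eL.hom i

end Q

end Groth.Agent.Lib.Helper5.SpreadMap
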