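import Mathlib
import Groth.Prelude.Def_DCoh2
import Groth.Agent.Lib.Helper5.SpreadMap.Free
import Groth.Agent.Lib.Helper5.SpreadMap.Qis
import Groth.Agent.Lib.Helper5.StalkTen.StalkTot

/-!
# Spreading out a chain map of stalk complexes from a bounded complex of finite free modules
(helper5)
-/
set_option autoImplicit false
set_option linter.unusedSectionVars false
set_option linter.unusedVariables false
set_option linter.style.haveILetI false
universe u
open CategoryTheory CategoryTheory.Limits Opposite TopologicalSpace AlgebraicGeometry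
open Groth.Agent.Lib.Helper5.Misc.StalkTensor Groth.Agent.Lib.Helper5.Sky
  Groth.Agent.Lib.Helper5.StalkAdj Groth.Agent.Lib.Helper5.LocLift
  Groth.Agent.Lib.Helper5.StalkTot

namespace Groth.Agent.Lib.Helper5.SpreadMap

variable {Z : Scheme.{u}} (z : Z)

theorem mem_finset_inf {ι : Type*} (s : Finset ι) (O : ι → Z.Opens) (h : ∀ i ∈ s, z ∈ O i) :
    z ∈ s.inf O := by
  classical
  induction s using Finset.induction_on with
  | empty => exact Opens.mem_top z
  | insert i s hi ih =>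
    rw [Finset.inf_insert]
    exact ⟨h i (Finset.mem_insert_self i s), ih (fun j hj => h j (Finset.mem_insert_of_mem hj))⟩

theorem exists_lift_stalk' {A : Z.Modules} (n : ℕ) (e : A ≅ FlatMod.freeMod Z n) (M : Z.Modules)
    (g : (stalkSh Z z).obj A ⟶ (stalkSh Z z).obj M) :
    ∃ O : Z.Opens, z ∈ O ∧ ∀ W : Z.Opens, W ≤ O → z ∈ W →
      ∃ φ : A ⟶ (TW W).obj M, (stalkSh Z z).map φ = g ≫ (stalkSh Z z).map (uW W M) := by
  obtain ⟨O, hzO, hO⟩ := exists_lift_stalk z n M ((stalkSh Z z).map e.inv ≫ g)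
  refine ⟨O, hzO, fun W hW hzW => ?_⟩
  obtain ⟨φ', hφ'⟩ := hO W hW hzW
  refine ⟨e.hom ≫ φ', ?_⟩
  rw [Functor.map_comp, hφ', ← Category.assoc, ← Category.assoc, ← Functor.map_comp, e.hom_inv_id,
    CategoryTheory.Functor.map_id, Category.id_comp]

theorem exists_restrict_eq_zero' {A : Z.Modules} (n : ℕ) (e : A ≅ FlatMod.freeMod Z n)
    (M : Z.Modules) (δ : A ⟶ M) (hδ : (stalkSh Z z).map δ = 0) :
    ∃ O : Z.Opens, z ∈ O ∧ ∀ W : Z.Opens, W ≤ O →
      (Scheme.Modules.restrictFunctor W.ι).map δ = 0 := by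
  obtain ⟨O, hzO, hO⟩ := exists_restrict_eq_zero z n M (e.inv ≫ δ)
    (by rw [Functor.map_comp, hδ, comp_zero])
  refine ⟨O, hzO, fun W hW => ?_⟩
  have h := hO W hW
  rw [Functor.map_comp] at h
  exact (cancel_epi ((Scheme.Modules.restrictFunctor W.ι).map e.inv)).1 (h.trans comp_zero.symm)

/-- **spreading out a chain map of stalk complexes** -/
theorem exists_spread (P F : CochainComplex Z.Modules ℤ) (a b : ℤ)
    (hab : DCoh.VanishesOutside P a b)
    (hfree : ∀ i : ℤ, ∃ n : ℕ, Nonempty (P.X i ≅ FlatMod.freeMod Z n))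
    (g : stalkCx Z z P ⟶ stalkCx Z z F) :
    ∃ (W₀ W : Z.Opens) (_ : W ≤ W₀) (_ : z ∈ W)
      (φ : (DCoh.restrictCx W).obj P ⟶ (DCoh.restrictCx W).obj F)
      (φb : ∀ i : ℤ, P.X i ⟶ (TW W₀).obj (F.X i)),
      (∀ i, (stalkSh Z z).map (φb i) = g.f i ≫ (stalkSh Z z).map (uW W₀ (F.X i))) ∧
      (∀ i, φ.f i ≫ (Scheme.Modules.restrictFunctor W.ι).map (uW W₀ (F.X i)) =
        (Scheme.Modules.restrictFunctor W.ι).map (φb i)) := by
  classical
  choose n he using hfree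
  let e : ∀ i, P.X i ≅ FlatMod.freeMod Z (n i) := fun i => (he i).some
  choose O hzO hO using fun i => exists_lift_stalk' z (n i) (e i) (F.X i) (g.f i)
  obtain ⟨W₀, hW₀⟩ : ∃ W₀ : Z.Opens, W₀ = (Finset.Icc a b).inf O := ⟨_, rfl⟩
  have hzW₀ : z ∈ W₀ := hW₀ ▸ mem_finset_inf z _ _ (fun i _ => hzO i)
  have key1 : ∀ i, ∃ φ : P.X i ⟶ (TW W₀).obj (F.X i),
      (stalkSh Z z).map φ = g.f i ≫ (stalkSh Z z).map (uW W₀ (F.X i)) := by
    intro i
    by_cases hi : i ∈ Finset.Icc a b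
    · exact hO i W₀ (hW₀ ▸ Finset.inf_le hi) hzW₀
    · have hz0 : IsZero (P.X i) := hab i (by rw [Finset.mem_Icc] at hi; omega)
      exact ⟨0, (Functor.map_isZero (stalkSh Z z) hz0).eq_of_src _ _⟩
  choose φb hφb using key1
  let δ : ∀ i : ℤ, P.X i ⟶ (TW W₀).obj (F.X (i + 1)) := fun i =>
    φb i ≫ (TW W₀).map (F.d i (i + 1)) - P.d i (i + 1) ≫ φb (i + 1)
  have hδ : ∀ i, (stalkSh Z z).map (δ i) = 0 := by
    intro i
    have hn : uW W₀ (F.X i) ≫ (TW W₀).map (F.d i (i + 1)) =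
        F.d i (i + 1) ≫ uW W₀ (F.X (i + 1)) :=
      ((Scheme.Modules.restrictAdjunction W₀.ι).unit.naturality (F.d i (i + 1))).symm
    let gi : (stalkSh Z z).obj (P.X i) ⟶ (stalkSh Z z).obj (F.X i) := g.f i
    let gj : (stalkSh Z z).obj (P.X (i + 1)) ⟶ (stalkSh Z z).obj (F.X (i + 1)) := g.f (i + 1)
    have hg' : gi ≫ (stalkSh Z z).map (F.d i (i + 1)) =
        (stalkSh Z z).map (P.d i (i + 1)) ≫ gj := g.comm i (i + 1)
    have h1 : (stalkSh Z z).map (φb i) = gi ≫ (stalkSh Z z).map (uW W₀ (F.X i)) := hφb i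
    have h2 : (stalkSh Z z).map (φb (i + 1)) =
        gj ≫ (stalkSh Z z).map (uW W₀ (F.X (i + 1))) := hφb (i + 1)
    dsimp only [δ]
    rw [Functor.map_sub, Functor.map_comp, Functor.map_comp, h1, h2, Category.assoc,
      ← Functor.map_comp, hn, Functor.map_comp, ← Category.assoc, hg', Category.assoc, sub_self]
  choose O' hzO' hO' using fun i => exists_restrict_eq_zero' z (n i) (e i) _ (δ i) (hδ i)
  obtain ⟨W, hW⟩ : ∃ W : Z.Opens, W = W₀ ⊓ (Finset.Icc (a - 1) b).inf O' := ⟨_, rfl⟩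
  have hle : W ≤ W₀ := hW ▸ inf_le_left
  have hzW : z ∈ W := hW ▸ ⟨hzW₀, mem_finset_inf z _ _ (fun i _ => hzO' i)⟩
  have key2 : ∀ i, (Scheme.Modules.restrictFunctor W.ι).map (δ i) = 0 := by
    intro i
    by_cases hi : i ∈ Finset.Icc (a - 1) b
    · exact hO' i W (hW ▸ inf_le_right.trans (Finset.inf_le hi))
    · have hz0 : IsZero (P.X i) := hab i (by rw [Finset.mem_Icc] at hi; omega)
      exact (Functor.map_isZero (Scheme.Modules.restrictFunctor W.ι) hz0).eq_of_src _ _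
  haveI : ∀ i, IsIso ((Scheme.Modules.restrictFunctor W.ι).map (uW W₀ (F.X i))) :=
    fun i => isIso_restrict_uW_of_le hle _
  have key3 : ∀ i, ∃ fi : (Scheme.Modules.restrictFunctor W.ι).obj (P.X i) ⟶
      (Scheme.Modules.restrictFunctor W.ι).obj (F.X i),
      fi ≫ (Scheme.Modules.restrictFunctor W.ι).map (uW W₀ (F.X i)) =
        (Scheme.Modules.restrictFunctor W.ι).map (φb i) := fun i =>
    ⟨(Scheme.Modules.restrictFunctor W.ι).map (φb i) ≫
      inv ((Scheme.Modules.restrictFunctor W.ι).map (uW W₀ (F.X i))),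
      by rw [Category.assoc, IsIso.inv_hom_id, Category.comp_id]⟩
  choose fi hfi using key3
  have hcomm : ∀ i, fi i ≫ (Scheme.Modules.restrictFunctor W.ι).map (F.d i (i + 1)) =
      (Scheme.Modules.restrictFunctor W.ι).map (P.d i (i + 1)) ≫ fi (i + 1) := by
    intro i
    have hn : (Scheme.Modules.restrictFunctor W.ι).map (uW W₀ (F.X i)) ≫
        (Scheme.Modules.restrictFunctor W.ι).map ((TW W₀).map (F.d i (i + 1))) =
        (Scheme.Modules.restrictFunctor W.ι).map (F.d i (i + 1)) ≫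
          (Scheme.Modules.restrictFunctor W.ι).map (uW W₀ (F.X (i + 1))) := by
      rw [← Functor.map_comp, ← Functor.map_comp]
      congr 1
      exact ((Scheme.Modules.restrictAdjunction W₀.ι).unit.naturality (F.d i (i + 1))).symm
    have h6 : (Scheme.Modules.restrictFunctor W.ι).map
        (φb i ≫ (TW W₀).map (F.d i (i + 1))) =
        (Scheme.Modules.restrictFunctor W.ι).map (P.d i (i + 1) ≫ φb (i + 1)) := by
      have h7 := key2 i
      dsimp only [δ] at h7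
      rw [Functor.map_sub, sub_eq_zero] at h7
      exact h7
    rw [← cancel_mono ((Scheme.Modules.restrictFunctor W.ι).map (uW W₀ (F.X (i + 1)))),
      Category.assoc, ← hn, ← Category.assoc, hfi i, ← Functor.map_comp, h6, Functor.map_comp,
      Category.assoc, hfi (i + 1)]
  let φ : (DCoh.restrictCx W).obj P ⟶ (DCoh.restrictCx W).obj F :=
    { f := fi
      comm' := fun i j hij => by
        obtain rfl : i + 1 = j := hij
        exact hcomm i }
  exact ⟨W₀, W, hle, hzW, φ, φb, hφb, hfi⟩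

section Abstract
variable {C D₁ D₂ A : Type*} [Category C] [Category D₁] [Category D₂] [Category A]

theorem square_of_cancel (rS : C ⥤ D₁) (S : C ⥤ D₂) (Φ₁ : D₁ ⥤ A) (Φ₂ : D₂ ⥤ A)
    (ν : rS ⋙ Φ₁ ≅ S ⋙ Φ₂) {Pj Fj TFj : C} (u : Fj ⟶ TFj) (φb : Pj ⟶ TFj)
    (f : rS.obj Pj ⟶ rS.obj Fj) (gj : S.obj Pj ⟶ S.obj Fj)
    (h2 : f ≫ rS.map u = rS.map φb) (h1 : S.map φb = gj ≫ S.map u)
    [Mono (Φ₂.map (S.map u))] :
    Φ₁.map f ≫ ν.hom.app Fj = ν.hom.app Pj ≫ Φ₂.map gj := by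
  have n1 : Φ₁.map (rS.map u) ≫ ν.hom.app TFj = ν.hom.app Fj ≫ Φ₂.map (S.map u) :=
    ν.hom.naturality u
  have n2 : Φ₁.map (rS.map φb) ≫ ν.hom.app TFj = ν.hom.app Pj ≫ Φ₂.map (S.map φb) :=
    ν.hom.naturality φb
  rw [← cancel_mono (Φ₂.map (S.map u)), Category.assoc, ← n1, ← Category.assoc,
    ← Functor.map_comp, h2, n2, h1, Functor.map_comp, Category.assoc]

end Abstract

/-- comparison of the `Ab`-valued stalk functors of `W` and `Z` -/
noncomputable def nuIso (W : Z.Opens) (w : W) :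
    (Scheme.Modules.restrictFunctor W.ι ⋙ stalkSh (W : Scheme.{u}) w) ⋙
        forget₂ (ModuleCat.{u} ((W : Scheme.{u}).presheaf.stalk w)) AddCommGrpCat.{u} ≅
      stalkSh Z (W.ι w) ⋙
        forget₂ (ModuleCat.{u} (Z.presheaf.stalk (W.ι w))) AddCommGrpCat.{u} :=
  Functor.associator _ _ _ ≪≫ Functor.isoWhiskerLeft _ (abStalkIso (Z := (W : Scheme.{u})) w) ≪≫
    Scheme.Modules.restrictStalkNatIso W.ι w ≪≫ (abStalkIso (W.ι w)).symm

/-- the induced comparison of complexes of abelian groups -/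
noncomputable def nuCx (W : Z.Opens) (w : W) (K : CochainComplex Z.Modules ℤ) :
    ((forget₂ (ModuleCat.{u} ((W : Scheme.{u}).presheaf.stalk w))
        AddCommGrpCat.{u}).mapHomologicalComplex (ComplexShape.up ℤ)).obj
      (((stalkSh (W : Scheme.{u}) w).mapHomologicalComplex (ComplexShape.up ℤ)).obj
        ((DCoh.restrictCx W).obj K)) ≅
    ((forget₂ (ModuleCat.{u} (Z.presheaf.stalk (W.ι w)))
        AddCommGrpCat.{u}).mapHomologicalComplex (ComplexShape.up ℤ)).obj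
      (stalkCx Z (W.ι w) K) :=
  HomologicalComplex.Hom.isoOfComponents (fun i => (nuIso W w).app (K.X i))
    (fun i j _ => ((nuIso W w).hom.naturality (K.d i j)).symm)

theorem quasiIsoAt_of_stalk_square (W : Z.Opens) (w : W) {K L : CochainComplex Z.Modules ℤ}
    (φ : (DCoh.restrictCx W).obj K ⟶ (DCoh.restrictCx W).obj L)
    (g : stalkCx Z (W.ι w) K ⟶ stalkCx Z (W.ι w) L)
    (hsq : ∀ i, (forget₂ (ModuleCat.{u} ((W : Scheme.{u}).presheaf.stalk w))
        AddCommGrpCat.{u}).map ((stalkSh (W : Scheme.{u}) w).map (φ.f i)) ≫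
          (nuIso W w).hom.app (L.X i) =
        (nuIso W w).hom.app (K.X i) ≫
          (forget₂ (ModuleCat.{u} (Z.presheaf.stalk (W.ι w))) AddCommGrpCat.{u}).map (g.f i))
    (i : ℤ) (hg : QuasiIsoAt g i) :
    QuasiIsoAt (((stalkSh (W : Scheme.{u}) w).mapHomologicalComplex
      (ComplexShape.up ℤ)).map φ) i := by
  refine quasiIsoAt_of_ab _ g (nuCx W w K) (nuCx W w L) ?_ i hg
  refine HomologicalComplex.hom_ext _ _ (fun j => ?_)
  exact hsq j

/-- **spreading out a chain map of stalk complexes, with control of quasi-isomorphy** -/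
theorem exists_spread_qis (P F : CochainComplex Z.Modules ℤ) (a b : ℤ)
    (hab : DCoh.VanishesOutside P a b)
    (hfree : ∀ i : ℤ, ∃ n : ℕ, Nonempty (P.X i ≅ FlatMod.freeMod Z n))
    (g : stalkCx Z z P ⟶ stalkCx Z z F) :
    ∃ (W : Z.Opens) (hz : z ∈ W)
      (φ : (DCoh.restrictCx W).obj P ⟶ (DCoh.restrictCx W).obj F),
      ∀ i, QuasiIsoAt g i →
        QuasiIsoAt (((stalkSh (W : Scheme.{u}) ⟨z, hz⟩).mapHomologicalComplex
          (ComplexShape.up ℤ)).map φ) i := by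
  obtain ⟨W₀, W, hle, hzW, φ, φb, h1, h2⟩ := exists_spread z P F a b hab hfree g
  refine ⟨W, hzW, φ, fun i hg => quasiIsoAt_of_stalk_square W ⟨z, hzW⟩ φ g (fun j => ?_) i hg⟩
  haveI : IsIso ((stalkSh Z z).map (uW W₀ (F.X j))) := isIso_stalkSh_uW z W₀ (hle hzW) _
  refine square_of_cancel
    (Scheme.Modules.restrictFunctor W.ι ⋙ stalkSh (W : Scheme.{u}) ⟨z, hzW⟩)
    (stalkSh Z z) _ _ (nuIso W ⟨z, hzW⟩) (uW W₀ (F.X j)) (φb j)
    ((stalkSh (W : Scheme.{u}) ⟨z, hzW⟩).map (φ.f j)) (g.f j) ?_ (h1 j)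
  change (stalkSh (W : Scheme.{u}) ⟨z, hzW⟩).map (φ.f j) ≫
      (stalkSh (W : Scheme.{u}) ⟨z, hzW⟩).map
        ((Scheme.Modules.restrictFunctor W.ι).map (uW W₀ (F.X j))) =
    (stalkSh (W : Scheme.{u}) ⟨z, hzW⟩).map
      ((Scheme.Modules.restrictFunctor W.ι).map (φb j))
  rw [← Functor.map_comp]
  exact congrArg _ (h2 j)

end Groth.Agent.Lib.Helper5.SpreadMap
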