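import Mathlib
import Groth.Prelude.Def_DCoh3
import Groth.Prelude.Def_CohB1
import Groth.Prelude.Def_CxOX
import Groth.Agent.Lib.Helper5.SpreadMap.Main
import Groth.Agent.Lib.Helper5.SpreadMap.Spread
import Groth.Agent.Lib.Helper5.TildePC.FromApprox
import Groth.Agent.Lib.Helper5.Perf.StalkFree
import Groth.Agent.Lib.Helper5.DRing.Classes
import Groth.Agent.Lib.Helper5.DRing.ConeG
import Groth.Agent.Lib.Helper5.Perf.PerfTri

/-!
# Spreading out an isomorphism of stalk complexes: the local theorem (helper5)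
-/
set_option autoImplicit false
set_option linter.style.haveILetI false
set_option linter.unusedVariables false
set_option linter.unusedSectionVars false
universe u
open CategoryTheory CategoryTheory.Limits AlgebraicGeometry Opposite TopologicalSpace Pretriangulated

attribute [local instance] HasDerivedCategory.standard

namespace Groth.Agent.Lib.Helper5.SpreadMap

open Groth.Agent.Lib.Helper5.RpushSupp Groth.Agent.Lib.Helper5.PCTop
  Groth.Agent.Lib.Helper5.PCApprox Groth.Agent.Lib.Helper5.PCTri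
  Groth.Agent.Lib.Helper5.StalkAdj Groth.Agent.Lib.Helper5.ExactHom
  Groth.Agent.Lib.Helper5.StalkTot Groth.Agent.Lib.Helper5.TildePC
  Groth.Agent.Lib.Helper5.PerfTri Groth.Agent.Lib.Helper5.StalkFree

variable {Z : Scheme.{u}}

theorem isGE_restrictD_gen {U : Scheme.{u}} (j : U ⟶ Z) [IsOpenImmersion j] (K : DCoh.D Z)
    (n : ℤ) [K.IsGE n] : ((DCoh.restrictD j).obj K).IsGE n := by
  rw [DerivedCategory.isGE_iff]
  intro i hi
  exact IsZero.of_iso (Functor.map_isZero (Scheme.Modules.restrictFunctor j)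
    (DerivedCategory.isZero_of_isGE K n i hi))
    ((derivedHomologyIso (Scheme.Modules.restrictFunctor j) i).app K)

theorem isLE_restrictD_gen {U : Scheme.{u}} (j : U ⟶ Z) [IsOpenImmersion j] (K : DCoh.D Z)
    (n : ℤ) [K.IsLE n] : ((DCoh.restrictD j).obj K).IsLE n := by
  rw [DerivedCategory.isLE_iff]
  intro i hi
  exact IsZero.of_iso (Functor.map_isZero (Scheme.Modules.restrictFunctor j)
    (DerivedCategory.isZero_of_isLE K n i hi))
    ((derivedHomologyIso (Scheme.Modules.restrictFunctor j) i).app K)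

/-- `Q` of the restricted complex against the derived restriction -/
noncomputable def facIso {U : Scheme.{u}} (j : U ⟶ Z) [IsOpenImmersion j]
    (E : CochainComplex Z.Modules ℤ) :
    (DCoh.restrictD j).obj (DCoh.toD Z E) ≅
      DCoh.toD U (((Scheme.Modules.restrictFunctor j).mapHomologicalComplex
        (ComplexShape.up ℤ)).obj E) :=
  (Scheme.Modules.restrictFunctor j).mapDerivedCategoryFactors.app E

/-- a chain map of stalk complexes lifting a map in the derived category composed with an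
isomorphism, with control of the quasi-isomorphy -/
theorem exists_stalk_chain_map (z : Z) (E F P : CochainComplex Z.Modules ℤ) (m : ℤ)
    (hP : DCoh.IsStrictlyPerfect P)
    (α : DerivedCategory.Q.obj P ⟶ DCoh.toD Z E) (hα : IsApprox m α)
    (θ : DerivedCategory.Q.obj (stalkCx Z z E) ≅ DerivedCategory.Q.obj (stalkCx Z z F)) :
    ∃ g : stalkCx Z z P ⟶ stalkCx Z z F, ∀ i, m < i → QuasiIsoAt g i := by
  obtain ⟨⟨a, b, hab⟩, hfl⟩ := hP
  haveI hKP : (stalkCx Z z P).IsKProjective :=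
    Groth.Agent.Helper5.DRingCone.kproj_of_proj (stalkCx Z z P) b
      (fun i hi => Functor.map_isZero (stalkSh Z z) (hab i (Or.inr hi)))
      (fun i => by
        have h := (free_finite_stalk_of_isFinLocFree (P.X i) (hfl i) z).1
        change Module.Projective (Z.presheaf.stalk z) ((stalkSh Z z).obj (P.X i))
        haveI := h
        exact Module.Projective.of_free)
  let v : DerivedCategory.Q.obj (stalkCx Z z P) ⟶ DerivedCategory.Q.obj (stalkCx Z z F) :=
    ((stalkSh Z z).mapDerivedCategoryFactors.app P).inv ≫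
      (stalkSh Z z).mapDerivedCategory.map α ≫
      ((stalkSh Z z).mapDerivedCategoryFactors.app E).hom ≫ θ.hom
  obtain ⟨g, hg⟩ := Groth.Agent.Helper5.ConeG.exists_chain_map (stalkCx Z z P) (stalkCx Z z F) v
  refine ⟨g, fun i hi => ?_⟩
  rw [quasiIsoAt_iff_isIso_homologyMap]
  have h1 : IsIso ((DerivedCategory.homologyFunctor _ i).map v) := by
    haveI := isIso_homology_map (R := stalkSh Z z) α i (hα.1 i hi)
    dsimp only [v]
    rw [Functor.map_comp, Functor.map_comp, Functor.map_comp]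
    infer_instance
  rw [← hg] at h1
  have h2 : IsIso ((DerivedCategory.Q ⋙ DerivedCategory.homologyFunctor _ i).map g) := h1
  exact (NatIso.isIso_map_iff (DerivedCategory.homologyFunctorFactors _ i) g).1 h2

/-- **the local theorem** -/
theorem local_thm (z : Z) (E F : CochainComplex Z.Modules ℤ) (c d : ℤ)
    [(DCoh.toD Z E).IsGE c] [(DCoh.toD Z E).IsLE d]
    [(DCoh.toD Z F).IsGE c] [(DCoh.toD Z F).IsLE d]
    (hE : ∀ m : ℤ, DCoh.IsPseudoCoherentD m (DCoh.toD Z E))
    (hF : ∀ m : ℤ, DCoh.IsPseudoCoherentD m (DCoh.toD Z F))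
    (hA : ApproxFree (c - 2) (DCoh.toD Z E))
    (θ : DerivedCategory.Q.obj (stalkCx Z z E) ≅ DerivedCategory.Q.obj (stalkCx Z z F)) :
    ∃ (U : Scheme.{u}) (j : U ⟶ Z) (_ : IsOpenImmersion j), (∃ u : U, j u = z) ∧
      Nonempty ((DCoh.restrictD j).obj (DCoh.toD Z E) ≅
        (DCoh.restrictD j).obj (DCoh.toD Z F)) := by
  obtain ⟨P, α, hP, hfree, hα⟩ := hA
  obtain ⟨g, hg⟩ := exists_stalk_chain_map z E F P (c - 2) hP α hα θ
  obtain ⟨⟨a, b, hab⟩, hfl⟩ := hP
  obtain ⟨W, hzW, φ, hφ⟩ := exists_spread_qis z P F a b hab hfree g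
  -- the restricted situation
  haveI : ((DCoh.restrictD W.ι).obj (DCoh.toD Z E)).IsGE c := isGE_restrictD_gen W.ι _ c
  haveI : ((DCoh.restrictD W.ι).obj (DCoh.toD Z E)).IsLE d := isLE_restrictD_gen W.ι _ d
  haveI : ((DCoh.restrictD W.ι).obj (DCoh.toD Z F)).IsGE c := isGE_restrictD_gen W.ι _ c
  haveI : ((DCoh.restrictD W.ι).obj (DCoh.toD Z F)).IsLE d := isLE_restrictD_gen W.ι _ d
  haveI : (DCoh.toD (W : Scheme.{u}) ((DCoh.restrictCx W).obj E)).IsGE c :=
    DerivedCategory.TStructure.t.isGE_of_iso (facIso W.ι E) c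
  haveI : (DCoh.toD (W : Scheme.{u}) ((DCoh.restrictCx W).obj E)).IsLE d :=
    DerivedCategory.TStructure.t.isLE_of_iso (facIso W.ι E) d
  haveI : (DCoh.toD (W : Scheme.{u}) ((DCoh.restrictCx W).obj F)).IsGE c :=
    DerivedCategory.TStructure.t.isGE_of_iso (facIso W.ι F) c
  haveI : (DCoh.toD (W : Scheme.{u}) ((DCoh.restrictCx W).obj F)).IsLE d :=
    DerivedCategory.TStructure.t.isLE_of_iso (facIso W.ι F) d
  have hE' : ∀ m : ℤ, DCoh.IsPseudoCoherentD m
      (DCoh.toD (W : Scheme.{u}) ((DCoh.restrictCx W).obj E)) := fun m =>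
    isPC_of_iso (facIso W.ι E) (Groth.Agent.Lib.Helper5.IsoSq.isPC_restrictD W.ι (hE m))
  have hF' : ∀ m : ℤ, DCoh.IsPseudoCoherentD m
      (DCoh.toD (W : Scheme.{u}) ((DCoh.restrictCx W).obj F)) := fun m =>
    isPC_of_iso (facIso W.ι F) (Groth.Agent.Lib.Helper5.IsoSq.isPC_restrictD W.ι (hF m))
  let α' : DerivedCategory.Q.obj ((DCoh.restrictCx W).obj P) ⟶
      DCoh.toD (W : Scheme.{u}) ((DCoh.restrictCx W).obj E) :=
    (facIso W.ι P).symm.hom ≫ (DCoh.restrictD W.ι).map α ≫ (facIso W.ι E).hom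
  have hα' : IsApprox (c - 2) α' :=
    ((hα.restrict W.ι).comp_iso (facIso W.ι E)).iso_comp (facIso W.ι P).symm
  obtain ⟨W₂, hwW₂, ⟨e⟩⟩ := main_lemma (Z := (W : Scheme.{u})) ⟨z, hzW⟩
    ((DCoh.restrictCx W).obj E) ((DCoh.restrictCx W).obj F) ((DCoh.restrictCx W).obj P) c d
    hE' hF' (c - 2) (by omega) α' hα' φ (fun i hi => hφ i (hg i hi))
  refine ⟨(W₂ : Scheme.{u}), W₂.ι ≫ W.ι, inferInstance, ⟨⟨⟨z, hzW⟩, hwW₂⟩, rfl⟩, ⟨?_⟩⟩
  exact restrictDCompObjIso W₂.ι W.ι _ ≪≫ (DCoh.restrictD W₂.ι).mapIso (facIso W.ι E) ≪≫ e ≪≫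
    (DCoh.restrictD W₂.ι).mapIso (facIso W.ι F).symm ≪≫ (restrictDCompObjIso W₂.ι W.ι _).symm

end Groth.Agent.Lib.Helper5.SpreadMap
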