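import Mathlib
import Groth.Prelude.Def_DCoh3
import Groth.Prelude.Def_CohB1
import Groth.Prelude.Def_CxOX
import Groth.Prelude.Def_DTen4
import Groth.Agent.Lib.Helper5.SpreadMap.Local
import Groth.Agent.Lib.Helper5.TensorAmp.TensorAmpF
import Groth.Agent.Lib.Helper5.Shriek.FLI
import Groth.Agent.Lib.Helper5.StalkTen.KFlatPull
import Groth.Agent.Lib.Helper5.TildePC.Main

/-!
# Spreading out an isomorphism of stalk complexes: the general theorem (helper5)
-/
set_option autoImplicit false
set_option linter.style.haveILetI false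
set_option linter.unusedVariables false
set_option linter.unusedSectionVars false
universe u
open CategoryTheory CategoryTheory.Limits AlgebraicGeometry Opposite TopologicalSpace Pretriangulated

attribute [local instance] HasDerivedCategory.standard

namespace Groth.Agent.Lib.Helper5.SpreadMap

open Groth.Agent.Lib.Helper5.RpushSupp Groth.Agent.Lib.Helper5.PCTop
  Groth.Agent.Lib.Helper5.PCApprox Groth.Agent.Lib.Helper5.PCTri
  Groth.Agent.Lib.Helper5.StalkAdj Groth.Agent.Lib.Helper5.ExactHom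
  Groth.Agent.Lib.Helper5.StalkTot Groth.Agent.Lib.Helper5.TildePC
  Groth.Agent.Lib.Helper5.PerfTri Groth.Agent.Lib.Helper5.StalkFree

section Ring

variable {A B : Type u} [CommRing A] [CommRing B]

/-- transport of an isomorphism of the derived category along extension of scalars by a ring
isomorphism -/
theorem nonempty_iso_extCx_of_ringEquiv (e : A ≃+* B) (K L : DRing.Cx A)
    (θ : DerivedCategory.Q.obj K ≅ DerivedCategory.Q.obj L) :
    Nonempty (DerivedCategory.Q.obj ((DTen.extCx e.toRingHom).obj K) ≅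
      DerivedCategory.Q.obj ((DTen.extCx e.toRingHom).obj L)) := by
  have hb : Function.Bijective e.toRingHom := e.bijective
  haveI := Groth.Agent.Lib.Helper5.TensorAmp.isIso_unitCx_of_bijective e.toRingHom hb K
  haveI := Groth.Agent.Lib.Helper5.TensorAmp.isIso_unitCx_of_bijective e.toRingHom hb L
  let uK := asIso ((DTen.unitCx e.toRingHom).app K)
  let uL := asIso ((DTen.unitCx e.toRingHom).app L)
  let i1 : (DRing.restrictD e.toRingHom).obj
        (DerivedCategory.Q.obj ((DTen.extCx e.toRingHom).obj K)) ≅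
      (DRing.restrictD e.toRingHom).obj
        (DerivedCategory.Q.obj ((DTen.extCx e.toRingHom).obj L)) :=
    (DTen.resFactors e.toRingHom).app _ ≪≫ DerivedCategory.Q.mapIso uK.symm ≪≫ θ ≪≫
      DerivedCategory.Q.mapIso uL ≪≫ ((DTen.resFactors e.toRingHom).app _).symm
  haveI : (DRing.restrictD e.toRingHom).IsEquivalence :=
    (Helper5.Shriek.restrictDEquiv e).isEquivalence_inverse
  exact ⟨(DRing.restrictD e.toRingHom).preimageIso i1⟩

theorem nonempty_iso_extCx_of_bijective (f : A →+* B) (hf : Function.Bijective f)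
    (K L : DRing.Cx A) (θ : DerivedCategory.Q.obj K ≅ DerivedCategory.Q.obj L) :
    Nonempty (DerivedCategory.Q.obj ((DTen.extCx f).obj K) ≅
      DerivedCategory.Q.obj ((DTen.extCx f).obj L)) := by
  obtain ⟨e, rfl⟩ : ∃ e : A ≃+* B, e.toRingHom = f :=
    ⟨RingEquiv.ofBijective f hf, RingHom.ext fun _ => rfl⟩
  exact nonempty_iso_extCx_of_ringEquiv e K L θ

end Ring

variable {X Z : Scheme.{u}}

/-- restriction along an open immersion as a pullback, for complexes -/
noncomputable def restrictCxIsoPullbackJ (j : Z ⟶ X) [IsOpenImmersion j]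
    (F : CochainComplex X.Modules ℤ) :
    ((Scheme.Modules.restrictFunctor j).mapHomologicalComplex (ComplexShape.up ℤ)).obj F ≅
      ((Scheme.Modules.pullback j).mapHomologicalComplex (ComplexShape.up ℤ)).obj F :=
  HomologicalComplex.Hom.isoOfComponents
    (fun i => (Scheme.Modules.restrictFunctorIsoPullback j).app (F.X i))
    (fun i k _ =>
      ((Scheme.Modules.restrictFunctorIsoPullback j).hom.naturality (F.d i k)).symm)

/-- the complex of stalks of a restriction along an open immersion -/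
noncomputable def stalkCxRestrictIsoJ (j : Z ⟶ X) [IsOpenImmersion j] (z : Z)
    (F : CochainComplex X.Modules ℤ) :
    stalkCx Z z (((Scheme.Modules.restrictFunctor j).mapHomologicalComplex
        (ComplexShape.up ℤ)).obj F) ≅
      (DTen.extCx (j.stalkMap z).hom).obj (stalkCx X (j z) F) :=
  ((stalkSh Z z).mapHomologicalComplex (ComplexShape.up ℤ)).mapIso
      (restrictCxIsoPullbackJ j F) ≪≫
    Groth.Agent.Lib.Helper5.KFlatPull.stalkCxPullbackIso j F z

/-- **the general theorem**, for a chart given by an open immersion -/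
theorem general_thm (j₀ : Z ⟶ X) [IsOpenImmersion j₀] (z₀ : Z) (x : X) (hx : j₀ z₀ = x)
    (E F : CochainComplex X.Modules ℤ) (c d : ℤ)
    [(DCoh.toD X E).IsGE c] [(DCoh.toD X E).IsLE d]
    [(DCoh.toD X F).IsGE c] [(DCoh.toD X F).IsLE d]
    (hE : ∀ m : ℤ, DCoh.IsPseudoCoherentD m (DCoh.toD X E))
    (hF : ∀ m : ℤ, DCoh.IsPseudoCoherentD m (DCoh.toD X F))
    (hA : ApproxFree (c - 2) ((DCoh.restrictD j₀).obj (DCoh.toD X E)))
    (θ : DerivedCategory.Q.obj (stalkCx X x E) ≅ DerivedCategory.Q.obj (stalkCx X x F)) :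
    ∃ (U : Scheme.{u}) (t : U ⟶ X) (_ : IsOpenImmersion t), (∃ u : U, t u = x) ∧
      Nonempty ((DCoh.restrictD t).obj (DCoh.toD X E) ≅
        (DCoh.restrictD t).obj (DCoh.toD X F)) := by
  subst hx
  haveI : ((DCoh.restrictD j₀).obj (DCoh.toD X E)).IsGE c := isGE_restrictD_gen j₀ _ c
  haveI : ((DCoh.restrictD j₀).obj (DCoh.toD X E)).IsLE d := isLE_restrictD_gen j₀ _ d
  haveI : ((DCoh.restrictD j₀).obj (DCoh.toD X F)).IsGE c := isGE_restrictD_gen j₀ _ c
  haveI : ((DCoh.restrictD j₀).obj (DCoh.toD X F)).IsLE d := isLE_restrictD_gen j₀ _ d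
  haveI : (DCoh.toD Z (((Scheme.Modules.restrictFunctor j₀).mapHomologicalComplex
      (ComplexShape.up ℤ)).obj E)).IsGE c :=
    DerivedCategory.TStructure.t.isGE_of_iso (facIso j₀ E) c
  haveI : (DCoh.toD Z (((Scheme.Modules.restrictFunctor j₀).mapHomologicalComplex
      (ComplexShape.up ℤ)).obj E)).IsLE d :=
    DerivedCategory.TStructure.t.isLE_of_iso (facIso j₀ E) d
  haveI : (DCoh.toD Z (((Scheme.Modules.restrictFunctor j₀).mapHomologicalComplex
      (ComplexShape.up ℤ)).obj F)).IsGE c :=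
    DerivedCategory.TStructure.t.isGE_of_iso (facIso j₀ F) c
  haveI : (DCoh.toD Z (((Scheme.Modules.restrictFunctor j₀).mapHomologicalComplex
      (ComplexShape.up ℤ)).obj F)).IsLE d :=
    DerivedCategory.TStructure.t.isLE_of_iso (facIso j₀ F) d
  have hE' : ∀ m : ℤ, DCoh.IsPseudoCoherentD m
      (DCoh.toD Z (((Scheme.Modules.restrictFunctor j₀).mapHomologicalComplex
        (ComplexShape.up ℤ)).obj E)) := fun m =>
    isPC_of_iso (facIso j₀ E) (Groth.Agent.Lib.Helper5.IsoSq.isPC_restrictD j₀ (hE m))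
  have hF' : ∀ m : ℤ, DCoh.IsPseudoCoherentD m
      (DCoh.toD Z (((Scheme.Modules.restrictFunctor j₀).mapHomologicalComplex
        (ComplexShape.up ℤ)).obj F)) := fun m =>
    isPC_of_iso (facIso j₀ F) (Groth.Agent.Lib.Helper5.IsoSq.isPC_restrictD j₀ (hF m))
  have hA' : ApproxFree (c - 2)
      (DCoh.toD Z (((Scheme.Modules.restrictFunctor j₀).mapHomologicalComplex
        (ComplexShape.up ℤ)).obj E)) := hA.of_iso (facIso j₀ E)
  have hf : Function.Bijective (j₀.stalkMap z₀).hom :=
    ConcreteCategory.bijective_of_isIso (j₀.stalkMap z₀)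
  obtain ⟨θ'⟩ := nonempty_iso_extCx_of_bijective (j₀.stalkMap z₀).hom hf _ _ θ
  let θZ : DerivedCategory.Q.obj (stalkCx Z z₀
        (((Scheme.Modules.restrictFunctor j₀).mapHomologicalComplex
          (ComplexShape.up ℤ)).obj E)) ≅
      DerivedCategory.Q.obj (stalkCx Z z₀
        (((Scheme.Modules.restrictFunctor j₀).mapHomologicalComplex
          (ComplexShape.up ℤ)).obj F)) :=
    DerivedCategory.Q.mapIso (stalkCxRestrictIsoJ j₀ z₀ E) ≪≫ θ' ≪≫
      DerivedCategory.Q.mapIso (stalkCxRestrictIsoJ j₀ z₀ F).symm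
  obtain ⟨U, j, hj, ⟨u, hu⟩, ⟨e⟩⟩ := local_thm z₀ _ _ c d hE' hF' hA' θZ
  refine ⟨U, j ≫ j₀, inferInstance, ⟨u, ?_⟩, ⟨?_⟩⟩
  · rw [← hu]
    rfl
  · exact restrictDCompObjIso j j₀ _ ≪≫ (DCoh.restrictD j).mapIso (facIso j₀ E) ≪≫ e ≪≫
      (DCoh.restrictD j).mapIso (facIso j₀ F).symm ≪≫ (restrictDCompObjIso j j₀ _).symm

end Groth.Agent.Lib.Helper5.SpreadMap
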