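import Mathlib
import Groth.Prelude.Def_DCoh3
import Groth.Prelude.Def_CohB1
import Groth.Prelude.Def_CxOX
import Groth.Prelude.Def_DerSch
import Groth.Agent.Lib.Helper5.SpreadMap.General

/-!
# Spreading out an isomorphism of stalk complexes of bounded pseudo-coherent complexes (helper5)
-/
set_option autoImplicit false
set_option linter.style.haveILetI false
set_option linter.unusedVariables false
set_option linter.unusedSectionVars false
universe u
open CategoryTheory CategoryTheory.Limits AlgebraicGeometry Opposite TopologicalSpace Pretriangulated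

attribute [local instance] HasDerivedCategory.standard

namespace Groth.Agent.Lib.Helper5.SpreadMap

open Groth.Agent.Lib.Helper5.PCApprox Groth.Agent.Lib.Helper5.PCTri
  Groth.Agent.Lib.Helper5.StalkAdj Groth.Agent.Lib.Helper5.StalkTot
  Groth.Agent.Lib.Helper5.TildePC Groth.Agent.Lib.Helper5.PerfTri

/-- **an isomorphism of the stalk complexes of two bounded pseudo-coherent complexes spreads out
to a neighbourhood** -/
theorem final_thm {X : Scheme.{u}} (x : X)
    (E F : CochainComplex X.Modules ℤ) (c d : ℤ)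
    [(DCoh.toD X E).IsGE c] [(DCoh.toD X E).IsLE d]
    [(DCoh.toD X F).IsGE c] [(DCoh.toD X F).IsLE d]
    (hE : ∀ m : ℤ, DCoh.IsPseudoCoherentD m (DCoh.toD X E))
    (hF : ∀ m : ℤ, DCoh.IsPseudoCoherentD m (DCoh.toD X F))
    (θ₀ : DerivedCategory.Q.obj (((DerSch.stalkFunctor X x).mapHomologicalComplex
        (ComplexShape.up ℤ)).obj E) ≅
      DerivedCategory.Q.obj (((DerSch.stalkFunctor X x).mapHomologicalComplex
        (ComplexShape.up ℤ)).obj F)) :
    ∃ U : X.Opens, x ∈ U ∧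
      Nonempty (DerivedCategory.Q.obj ((DCoh.restrictCx U).obj E) ≅
        DerivedCategory.Q.obj ((DCoh.restrictCx U).obj F)) := by
  let sE : ((DerSch.stalkFunctor X x).mapHomologicalComplex (ComplexShape.up ℤ)).obj E ≅
      stalkCx X x E :=
    (NatIso.mapHomologicalComplex (stalkFunctorIso X x) (ComplexShape.up ℤ)).app E
  let sF : ((DerSch.stalkFunctor X x).mapHomologicalComplex (ComplexShape.up ℤ)).obj F ≅
      stalkCx X x F :=
    (NatIso.mapHomologicalComplex (stalkFunctorIso X x) (ComplexShape.up ℤ)).app F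
  let θ : DerivedCategory.Q.obj (stalkCx X x E) ≅ DerivedCategory.Q.obj (stalkCx X x F) :=
    DerivedCategory.Q.mapIso sE.symm ≪≫ θ₀ ≪≫ DerivedCategory.Q.mapIso sF
  obtain ⟨V, hxV, hV⟩ := exists_approx_of_isPC (hE (c - 2)) x
  obtain ⟨W, hxW, hW⟩ := exists_approxFree_nhd hV ⟨x, hxV⟩
  have hA : ApproxFree (c - 2) ((DCoh.restrictD (W.ι ≫ V.ι)).obj (DCoh.toD X E)) :=
    hW.of_iso (restrictDCompObjIso W.ι V.ι _).symm
  obtain ⟨U, t, ht, ⟨u, hu⟩, ⟨e⟩⟩ :=
    general_thm (W.ι ≫ V.ι) ⟨⟨x, hxV⟩, hxW⟩ x rfl E F c d hE hF hA θ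
  refine ⟨t.opensRange, ⟨u, hu⟩, ⟨?_⟩⟩
  have hcomp : t.isoOpensRange.inv ≫ t = t.opensRange.ι := Scheme.Hom.isoOpensRange_inv_comp t
  let rE : (DCoh.restrictD t.opensRange.ι).obj (DCoh.toD X E) ≅
      (DCoh.restrictD t.isoOpensRange.inv).obj ((DCoh.restrictD t).obj (DCoh.toD X E)) :=
    (restrictDCongrObjIso hcomp _).symm ≪≫ restrictDCompObjIso t.isoOpensRange.inv t _
  let rF : (DCoh.restrictD t.opensRange.ι).obj (DCoh.toD X F) ≅
      (DCoh.restrictD t.isoOpensRange.inv).obj ((DCoh.restrictD t).obj (DCoh.toD X F)) :=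
    (restrictDCongrObjIso hcomp _).symm ≪≫ restrictDCompObjIso t.isoOpensRange.inv t _
  exact (facIso t.opensRange.ι E).symm ≪≫ rE ≪≫
    (DCoh.restrictD t.isoOpensRange.inv).mapIso e ≪≫ rF.symm ≪≫ facIso t.opensRange.ι F

end Groth.Agent.Lib.Helper5.SpreadMap
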